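import Groth.Agent.Fano.K745.HDef
import Groth.Agent.Lefpen.H702.PolyFun
import Groth.Agent.VarietyB.DimSch

/-!
# Conics on a general hypersurface: the space of conics is irreducible of the expected dimension

Node H8 of the plan `K745.PlanH` and the assembly of `GoodG`.  The inputs (nodes H4b, H5, H6, H7, H9, H10, H11) are hypotheses.
-/

set_option autoImplicit false

universe u

open CategoryTheory CategoryTheory.Limits AlgebraicGeometry TopologicalSpace Topology

namespace K695.HFin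

open K745.ConDef K745.HDef W4swstmapratcurves Groth.Agent.Lefpen.H701 Groth.Agent.Lefpen.H702.PolyFun

section Top

variable {R : Type u} [CommRing R] (f : R) (O : (Spec (CommRingCat.of R)).Opens)

/-- If `Spec R_f` is irreducible, and minimal primes of `R` lie in `O` iff they do not contain `f`, then `O` is the closure of
a minimal prime intersected with `O`. -/
theorem exists_generic [IrreducibleSpace (PrimeSpectrum (Localization.Away f))]
    (h : ∀ p : PrimeSpectrum R, p.asIdeal ∈ minimalPrimes R →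
      ((p : Spec (CommRingCat.of R)) ∈ O ↔ f ∉ p.asIdeal)) :
    ∃ p₀ : PrimeSpectrum R, p₀.asIdeal ∈ minimalPrimes R ∧ f ∉ p₀.asIdeal ∧
      (p₀ : Spec (CommRingCat.of R)) ∈ O ∧
      ∀ q : PrimeSpectrum R, (q : Spec (CommRingCat.of R)) ∈ O → p₀ ≤ q := by
  have hnil : (nilradical (Localization.Away f)).IsPrime :=
    PrimeSpectrum.irreducibleSpace_iff_isPrime_nilradical.mp inferInstance
  let P₀ : PrimeSpectrum (Localization.Away f) := ⟨nilradical _, hnil⟩
  let p₀ : PrimeSpectrum R := PrimeSpectrum.comap (algebraMap R (Localization.Away f)) P₀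
  -- primes not containing `f` are above `p₀`
  have key : ∀ p : PrimeSpectrum R, f ∉ p.asIdeal → p₀ ≤ p := by
    intro p hp
    have hr : p ∈ Set.range (PrimeSpectrum.comap (algebraMap R (Localization.Away f))) := by
      rw [PrimeSpectrum.localization_away_comap_range (Localization.Away f) f]
      exact hp
    obtain ⟨P, rfl⟩ := hr
    intro x hx
    exact (nilradical_le_prime P.asIdeal) hx
  have hf0 : f ∉ p₀.asIdeal := by
    intro hf
    have : p₀ ∈ Set.range (PrimeSpectrum.comap (algebraMap R (Localization.Away f))) := ⟨P₀, rfl⟩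
    rw [PrimeSpectrum.localization_away_comap_range (Localization.Away f) f] at this
    exact this hf
  have hmin : p₀.asIdeal ∈ minimalPrimes R := by
    obtain ⟨p, hp, hle⟩ := Ideal.exists_minimalPrimes_le (I := (⊥ : Ideal R)) (J := p₀.asIdeal) bot_le
    have hpp : p.IsPrime := hp.1.1
    have h1 : p₀ ≤ ⟨p, hpp⟩ := key ⟨p, hpp⟩ fun hf => hf0 (hle hf)
    have h2 : p = p₀.asIdeal := le_antisymm hle h1
    rw [← h2]
    exact hp
  refine ⟨p₀, hmin, hf0, (h p₀ hmin).2 hf0, fun q hq => ?_⟩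
  obtain ⟨p, hp, hle⟩ := Ideal.exists_minimalPrimes_le (I := (⊥ : Ideal R)) (J := q.asIdeal) bot_le
  have hpp : p.IsPrime := hp.1.1
  have hpO : ((⟨p, hpp⟩ : PrimeSpectrum R) : Spec (CommRingCat.of R)) ∈ O := by
    have hs : (⟨p, hpp⟩ : PrimeSpectrum R) ⤳ q := (PrimeSpectrum.le_iff_specializes _ _).mp hle
    exact hs.mem_open O.isOpen hq
  have hfp := (h ⟨p, hpp⟩ hp).1 hpO
  exact (key ⟨p, hpp⟩ hfp).trans hle

omit f O in
/-- The dimension of an irreducible scheme locally of finite type over a field, via a nonempty open subset embedded in a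
space. -/
theorem dim_le_of_inducing (k : Type u) [Field k] (Z : Scheme.{u}) (a : Z ⟶ Spec (CommRingCat.of k))
    [LocallyOfFiniteType a] [IrreducibleSpace Z] (V : Z.Opens) (hV : (V : Set Z).Nonempty)
    {X : Type*} [TopologicalSpace X] (g : V → X) (hg : IsInducing g) :
    topologicalKrullDim Z ≤ topologicalKrullDim X := by
  let _ : Z.Over (Spec (CommRingCat.of k)) := ⟨a⟩
  have : LocallyOfFiniteType (Z ↘ Spec (CommRingCat.of k)) := inferInstanceAs (LocallyOfFiniteType a)
  rw [Groth.Agent.VarietyB.DimSch.topologicalKrullDim_eq_trd k (X := Z),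
    ← Groth.Agent.VarietyB.DimSch.topologicalKrullDim_opens_eq_trd k (X := Z) V hV]
  exact hg.topologicalKrullDim_le

/-- The same, in terms of topology and dimension, for algebras of finite type over a field. -/
theorem irreducible_and_dim (k : Type u) [Field k] [Algebra k R] [Algebra.FiniteType k R]
    [IrreducibleSpace (PrimeSpectrum (Localization.Away f))]
    (h : ∀ p : PrimeSpectrum R, p.asIdeal ∈ minimalPrimes R →
      ((p : Spec (CommRingCat.of R)) ∈ O ↔ f ∉ p.asIdeal)) (N : WithBot ℕ∞)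
    (hlow : ∀ p ∈ minimalPrimes R, N ≤ ringKrullDim (R ⧸ p)) (hup : ringKrullDim (Localization.Away f) ≤ N) :
    IrreducibleSpace (O : Scheme.{u}) ∧ topologicalKrullDim (O : Scheme.{u}) = N := by
  obtain ⟨p₀, hmin, hf0, hO, hall⟩ := exists_generic f O h
  have hall' : ∀ q : Spec (CommRingCat.of R), q ∈ O → (p₀ : Spec (CommRingCat.of R)) ⤳ q := fun q hq =>
    (PrimeSpectrum.le_iff_specializes _ _).mp (hall q hq)
  have hirr : IrreducibleSpace (O : Scheme.{u}) := by
    have : IsIrreducible (O : Set (Spec (CommRingCat.of R))) := by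
      refine ⟨⟨p₀, hO⟩, fun U V hU hV ⟨x, hxO, hxU⟩ ⟨y, hyO, hyV⟩ => ⟨p₀, hO, ?_, ?_⟩⟩
      · exact (hall' x hxO).mem_open hU hxU
      · exact (hall' y hyO).mem_open hV hyV
    exact Subtype.irreducibleSpace this
  have hft : LocallyOfFiniteType (Spec.map (CommRingCat.ofHom (algebraMap k R))) := by
    rw [HasRingHomProperty.Spec_iff (P := @LocallyOfFiniteType)]
    exact RingHom.finiteType_algebraMap.mpr inferInstance
  refine ⟨hirr, le_antisymm ?_ ?_⟩
  · -- upper bound
    refine le_trans ?_ hup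
    rw [← PrimeSpectrum.topologicalKrullDim_eq_ringKrullDim]
    have hemb := PrimeSpectrum.localization_away_isOpenEmbedding (Localization.Away f) f
    have hr := PrimeSpectrum.localization_away_comap_range (Localization.Away f) f
    let V : (O : Scheme.{u}).Opens := ⟨{x | f ∉ (x.1 : PrimeSpectrum R).asIdeal},
      (PrimeSpectrum.basicOpen f).isOpen.preimage continuous_subtype_val⟩
    let g : V → PrimeSpectrum (Localization.Away f) := fun x =>
      (hemb.toIsEmbedding.toHomeomorph).symm ⟨(x.1.1 : PrimeSpectrum R), by rw [hr]; exact x.2⟩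
    refine dim_le_of_inducing k (O : Scheme.{u}) (O.ι ≫ Spec.map (CommRingCat.ofHom (algebraMap k R))) V
      ⟨⟨p₀, hO⟩, hf0⟩ g ?_
    refine (hemb.toIsEmbedding.toHomeomorph).symm.isInducing.comp ?_
    refine IsInducing.codRestrict ?_ _
    exact IsInducing.subtypeVal.comp IsInducing.subtypeVal
  · -- lower bound
    have hp₀ : p₀.asIdeal.IsPrime := p₀.isPrime
    refine (hlow _ hmin).trans ?_
    rw [← PrimeSpectrum.topologicalKrullDim_eq_ringKrullDim]
    have hcl := PrimeSpectrum.isClosedEmbedding_comap_of_surjective _ (Ideal.Quotient.mk p₀.asIdeal)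
      Ideal.Quotient.mk_surjective
    let V : (Spec (CommRingCat.of (R ⧸ p₀.asIdeal))).Opens :=
      ⟨PrimeSpectrum.comap (Ideal.Quotient.mk p₀.asIdeal) ⁻¹' (O : Set (Spec (CommRingCat.of R))),
        O.isOpen.preimage hcl.continuous⟩
    let g : V → (O : Scheme.{u}) := fun x => ⟨PrimeSpectrum.comap (Ideal.Quotient.mk p₀.asIdeal) x.1, x.2⟩
    have : IrreducibleSpace (Spec (CommRingCat.of (R ⧸ p₀.asIdeal))) :=
      inferInstanceAs (IrreducibleSpace (PrimeSpectrum (R ⧸ p₀.asIdeal)))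
    have hft' : LocallyOfFiniteType (Spec.map (CommRingCat.ofHom (algebraMap k (R ⧸ p₀.asIdeal)))) := by
      rw [HasRingHomProperty.Spec_iff (P := @LocallyOfFiniteType)]
      exact RingHom.finiteType_algebraMap.mpr inferInstance
    refine dim_le_of_inducing k (Spec (CommRingCat.of (R ⧸ p₀.asIdeal)))
      (Spec.map (CommRingCat.ofHom (algebraMap k (R ⧸ p₀.asIdeal)))) V ⟨⟨⊥, Ideal.isPrime_bot⟩, ?_⟩ g ?_
    · have : PrimeSpectrum.comap (Ideal.Quotient.mk p₀.asIdeal) ⟨⊥, Ideal.isPrime_bot⟩ = p₀ := by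
        ext1
        rw [PrimeSpectrum.comap_asIdeal, ← RingHom.ker_eq_comap_bot, Ideal.mk_ker]
      change PrimeSpectrum.comap (Ideal.Quotient.mk p₀.asIdeal) ⟨⊥, Ideal.isPrime_bot⟩ ∈ (O : Set (Spec (CommRingCat.of R)))
      rw [this]
      exact hO
    · refine IsInducing.codRestrict ?_ _
      exact hcl.isInducing.comp IsInducing.subtypeVal

end Top

section Main

variable {n d : ℕ} (k : Type u) [Field k]

/-- Node H8 (from H4b - H7). -/
theorem isGeneric_irreducible_dim [IsAlgClosed k] [CharZero k] (hd : 1 ≤ d) (hdn : d + 3 ≤ n) (hn : 2 ≤ n)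
    (h4 : LefPen.IsGeneric k {G : LefPen.Form n k d | IrreducibleSpace (PrimeSpectrum (RD hn G.1))})
    (h5 : ∀ (G : LefPen.Form n k d) (p : Ideal (RC G.1)), p ∈ minimalPrimes (RC G.1) →
      ((3 * n + 7 - 2 * d : ℕ) : WithBot ℕ∞) ≤ ringKrullDim (RC G.1 ⧸ p))
    (h6 : LefPen.IsGeneric k {G : LefPen.Form n k d | ∀ p : PrimeSpectrum (RC G.1),
      (p ∈ VO G.1 ∧ mkR G.1 (del hn (φU n k)) ∈ p.asIdeal) ∨
        (mkR G.1 (del hn (φU n k)) ∉ p.asIdeal ∧ ∀ i, mkR G.1 (disc3 (cU n k) i) ∈ p.asIdeal) →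
      ringKrullDim (RC G.1 ⧸ p.asIdeal) ≤ ((3 * n + 6 - 2 * d : ℕ) : WithBot ℕ∞)})
    (h7 : LefPen.IsGeneric k {G : LefPen.Form n k d |
      ringKrullDim (RD hn G.1) ≤ ((3 * n + 7 - 2 * d : ℕ) : WithBot ℕ∞)}) :
    LefPen.IsGeneric k {G : LefPen.Form n k d | IrreducibleSpace (VG G.1) ∧
      topologicalKrullDim (VG G.1) = ((3 * n + 7 - 2 * d : ℕ) : WithBot ℕ∞)} := by
  have : Infinite k := IsAlgClosed.instInfinite
  refine IsGeneric.mono (IsGeneric.inter (IsGeneric.inter h4 h6) h7) ?_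
  rintro G ⟨⟨hG4, hG6⟩, hG7⟩
  have hG4' : IrreducibleSpace (PrimeSpectrum (Localization.Away (mkR G.1 (del hn (φU n k))))) := hG4
  refine irreducible_and_dim (mkR G.1 (del hn (φU n k))) (VO G.1) k (fun p hp => ?_) _ (h5 G) hG7
  -- minimal primes are not bad
  have hbad : ¬ ((p ∈ VO G.1 ∧ mkR G.1 (del hn (φU n k)) ∈ p.asIdeal) ∨
      (mkR G.1 (del hn (φU n k)) ∉ p.asIdeal ∧ ∀ i, mkR G.1 (disc3 (cU n k) i) ∈ p.asIdeal)) := by
    intro hb
    have h1 := (h5 G _ hp).trans (hG6 p hb)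
    have h2 : 3 * n + 7 - 2 * d ≤ 3 * n + 6 - 2 * d := by exact_mod_cast h1
    omega
  push Not at hbad
  refine ⟨fun hpO => hbad.1 hpO, fun hdel => ?_⟩
  obtain ⟨i, hi⟩ := hbad.2 hdel
  rw [VO]
  refine TopologicalSpace.Opens.mem_iSup.mpr ⟨(i, Sum.inl (row3 hn)), ?_⟩
  change mkR G.1 (regPoly (cU n k) (φU n k) (i, Sum.inl (row3 hn))) ∉ p.asIdeal
  rw [regPoly, map_mul]
  exact fun hmem => (p.isPrime.mem_or_mem hmem).elim hi hdel

/-- The conditions `GoodG` hold generically (from H8 - H11). -/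
theorem isGeneric_goodG [IsAlgClosed k]
    (h8 : LefPen.IsGeneric k {G : LefPen.Form n k d | IrreducibleSpace (VG G.1) ∧
      topologicalKrullDim (VG G.1) = ((3 * n + 7 - 2 * d : ℕ) : WithBot ℕ∞)})
    (h9 : LefPen.IsGeneric k {G : LefPen.Form n k d | ∃ p ∈ VO G.1, UnobPt d G.1 p})
    (h10 : LefPen.IsGeneric k {G : LefPen.Form n k d |
      ((3 * n - 2 * d - 2 : ℕ) : WithBot ℕ∞) ≤ topologicalKrullDim (SG G.1)})
    (h11 : LefPen.IsGeneric k {G : LefPen.Form n k d | G ≠ 0 ∧ Smooth (hypOver G).hom}) :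
    LefPen.IsGeneric k {G : LefPen.Form n k d | GoodG G} := by
  have : Infinite k := IsAlgClosed.instInfinite
  refine IsGeneric.mono (IsGeneric.inter (IsGeneric.inter (IsGeneric.inter h8 h9) h10) h11) ?_
  rintro G ⟨⟨⟨⟨h1, h2⟩, h3⟩, h4⟩, h5, h6⟩
  exact ⟨h5, h6, h1, h2, h3, h4⟩

end Main

end K695.HFin
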